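import Cfsg.Agent.Chevalley.Data.SysE8

/-!
Root functions of type E8 modulo `l`: each is carried to a point of the alcove by reflections, as
an energy drops strictly otherwise. Hence no nonzero root function mod 17 takes all nonzero values
equally often, and the zero sets mod 3 have four possible sizes.
-/

set_option autoImplicit false
set_option linter.style.longLine false

namespace CfsgLib.E8Alt74

open Cfsg.Lie CfsgLib.Chevalley

/-- The number of roots on which a root function mod 17 takes the value `v`. -/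
noncomputable def cnt17 (f : Fin 8 → ZMod 17) (v : ZMod 17) : ℕ :=
  (Finset.univ.filter fun s : Fin chevE8.nroots =>
    (∑ m : Fin 8, (sysE8.vec m s : ZMod 17) * f m) = v).card

/-- The coordinates of a root. -/
def vT (m : Fin 8) (s : Fin chevE8.nroots) : ℤ := tabE8.coord 8 m s

theorem vec_eq (m : Fin 8) (s : Fin chevE8.nroots) : sysE8.vec m s = vT m s := rfl

/-- A linear form on the roots. -/
def lin (x : Fin 8 → ℤ) (s : Fin chevE8.nroots) : ℤ :=
  vT 0 s * x 0 + vT 1 s * x 1 + vT 2 s * x 2 + vT 3 s * x 3 +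
    vT 4 s * x 4 + vT 5 s * x 5 + vT 6 s * x 6 + vT 7 s * x 7

theorem lin_eq (x : Fin 8 → ℤ) (s : Fin chevE8.nroots) : lin x s = ∑ m, vT m s * x m :=
  (Fin.sum_univ_eight fun m => vT m s * x m).symm

theorem lin_sub_smul (x h : Fin 8 → ℤ) (t : ℤ) (s : Fin chevE8.nroots) :
    lin (fun m => x m - t * h m) s = lin x s - t * lin h s := by
  simp only [lin]; ring

/-- The nine reflections: in the fundamental roots and in the highest one. -/
def permTab : Fin 9 → ℕ := ![
  0xefeeedecebeae1e8e0dfdedddcdbe9e7e6e5e4e3e2dad9d8d7d6d5d4d3d2d1d0cfcecdcccbcac9c8c7c6c5c4c3c2c1c0bfbebdbcbbbab9b8a1a09f9e9d9c9b9a999897969594938c8b8a8988874db7b6b5b4b3b2b1b0afaeadacabaaa99291908f8e8da8a7a6a5a4a3868584838281807f7e7d7c7b7a797877767574737271706f6e6d6c6b6a694c4b4a4948476261605f5e5d464544434241403f3e3d3c3b3a3938a26867666564635c5b5a595857565554535251504f4e37363534333231302f2e2d2c2b2a292827262524232221201f1e1d1c1b1a19181716150d0c0b0a09080614131211100f070e050403020100,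
  0xefeeedecebe8e7eae9e6e5e4e3e2e0e1dfdedddcdbdad9d8d7d6cbcac9c8c7c6c5c4c3c2d5d4d3d2d1d0cfcecdccc1c0bfbebdbcbbbab9b8b7b6b5b4b3b2b1b0afaea8a7a6a5a4adacabaaa9a3a2a1a09f9e9d9c9b9a99988c8b8a89888685848382629796959493879291908f8e81807f7e7d7c7b7a797877767574737271706f6e61605f5e5d685c5b5a59588d6d6c6b6a69676665646357565554535251504f4e4d4c46454443424b4a49484741403f3e3d3c3b3a393837363534333231302f2e232221201f1e1d1c1b1a2d2c2b2a292827262524191817161514131211100e0f0d0c0b0a09060508070403020100,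
  0xefeeedecebe9eae7e8e6e5e4e3e2e1e0dad9d8d7d6dfdedddcdbd5d4d3d2d1d0cfcecdcccbcac9c8c7c6c5c4c3c2b7b6b5b4b3b2b1b0afaec1c0bfbebdbcbbbab9b8adacabaaa9a8a7a6a5a4a2a3a1a09f9e9d9c9b9a99989291908f8e97969594938d8685848382688c8b8a898881807f7e7d7c7b7a797877767574737271706f6e6766656463876d6c6b6a69625c5b5a595861605f5e5d57565554535251504f4e4c4d4b4a494847464544434237363534333231302f2e41403f3e3d3c3b3a39382d2c2b2a292827262524232221201f1e1d1c1b1a141312111019181716150f0e0d0c0b0a09070805060403020100,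
  0xefeeedeceaebe9e8e6e7e5e4e3e2e1dfe0dedddcdbdad5d4d3d2d9d8d7d6d1d0cfcecdcccbcac9c8c1c0bfbebdbcc7c6c5c4c3c2bbbab9b8b7b6b5b4b3b2adacabaab1b0afaea9a8a7a6a5a3a4a2a1a09f9e9d9c979695949b9a9998939291908f8d8e8c8b8a89878881807f7e6d868584837d7c7b7a79787776757473726c6b6a698271706f6e6768666564636162605f5e5d5c575655545b5a5958535251504f4e4d4b4c4a4948474641403f3e454443423d3c3b3a3938373635342d2c2b2a2928333231302f2e27262524232221201f1e191817161d1c1b1a15141312110f100e0d0c0b0a08090706040503020100,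
  0xefeeedebeceae9e8e7e5e6e4e3e2e1e0dedfdddcdbd9dad8d7d6d5d1d0cfd4d3d2cecdcccbc7c6c5cac9c8c4c3c2c1c0bfbbbab9bebdbcb8b7b6b5b1b0afb4b3b2aeadacaba9aaa8a7a6a4a5a3a2a1a09f9b9a999e9d9c9897969593949291908e8f8d8c8b8a88898786858482837d7c7b7181807f7a7978777675706f6e7e7473726c6d6b6a696866676564636260615f5e5d5b5c5a595857535251565554504f4e4d4c4a4b4948474546444342413d3c3b403f3e3a393837333231363534302f2e2d2c2b2726252a2928242322211d1c1b201f1e1a191817151614131210110f0e0d0c0b090a080706050304020100,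
  0xefeeecedebeae9e8e7e6e4e5e3e2e1e0dfdddedcdbdad8d9d7d6d4d5d3d2d1cecdd0cfcccacbc9c8c7c4c3c6c5c2c1bebdc0bfbcbbbab8b9b7b4b3b6b5b2b1b0aeafadacaaaba9a8a7a5a6a4a3a2a19e9da09f9c9b9a9899979694959392918f908e8d8c8b898a8887868583848281807e7f7a79747d7c787773727b767570716f6e6d6b6c6a6968676566646362615f605e5d5c5a5b59585657555453504f52514e4d4c4b494a4847464445434240413f3e3d3a393c3b383637353433302f32312e2d2a292c2b282726242523201f22211e1d1c1a1b191816171514131112100f0e0d0c0a0b09080706050402030100,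
  0xefedeeecebeae9e8e7e6e5e3e4e2e1e0dfdedcdddbdad9d7d8d6d5d3d4d2d0d1cfcecccdcbc9cac8c6c7c5c4c2c3c0c1bfbebcbdbbb9bab8b6b7b5b4b2b3b1afb0aeadabacaaa9a8a6a7a5a4a3a2a0a19f9e9c9d9b999a9897959694939290918f8e8d8c8a8b8988878684858382817f807e7d7b7c78767a757977737472716f706e6d6c6a6b696867666465636261605e5f5d5c5b595a5857555654525351504e4f4d4c4b4a4849474645434442413f403e3c3d3b3a383937353634323331302e2f2c2d2b2a282927252624222321201e1f1d1b1c1a191718161514121311100f0e0d0b0c0a09080706050403010200,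
  0xeeefedecebeae9e8e7e6e5e4e2e3e1e0dfdedddbdcdad9d8d6d7d5d4d2d3d1cfd0cdcecccbcac8c9c7c5c6c3c4c2c1bfc0bdbebcbabbb9b8b7b5b6b3b4b2b0b1afaeacadabaaa9a7a8a6a5a4a3a2a19fa09d9e9c9a9b999896979594939192908f8e8d8b8c8a898887858684838280817f7e7c7d7b797a7778757674727371706e6f6d6c6b696a6867666563646261605f5d5e5c5b5a5859575654555351524f504e4d4c4b4a494748464544424341403e3f3d3b3c393a38373634353331322f302e2d2b2c292a28262725242321221f201e1c1d1b1a181917161513141211100f0e0c0d0b0a09080706050403020001,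
  0x7775726e69635d5854514f4ee247423e3b3938db34312f2ed62b2928d22625cf24cdcc211f1ec81c1bc51ac3c21817bf16bdbc15bab9b81312b511b3b210b0afae0facabaaa90ea7a6a5a4a3a20c0b9f0a9d9c099a999808969594930791908f8e8d068b8a898887058584838204807f7e037c7b027901ee76ed7473ec71706feb6d6c6b6aea6867666564e96261605f5ee85c5b5a59e7575655e65352e550e4e34d4c4b4a4948e146454443e041403fdf3d3cde3adddc373635da3332d930d8d72d2cd52ad4d327d1d0ce2322cb20cac91dc7c6c419c1c0bebb14b7b6b4b1ada80da1a09e9b97928c86817d7a78ef]

theorem permTab_lt : ∀ r : Fin 9, ∀ s : Fin chevE8.nroots,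
    (permTab r >>> (8 * s.val)) % 256 < chevE8.nroots := by decide +kernel

/-- The permutation of the roots. -/
def wperm (r : Fin 9) (s : Fin chevE8.nroots) : Fin chevE8.nroots :=
  ⟨(permTab r >>> (8 * s.val)) % 256, permTab_lt r s⟩

theorem wperm_invol : ∀ r : Fin 9, ∀ s : Fin chevE8.nroots,
    wperm r (wperm r s) = s := by decide +kernel

/-- The root of a reflection on the fundamental ones. -/
def rootV : Fin 9 → Fin 8 → ℤ := ![
  ![1, 0, 0, 0, 0, 0, 0, 0], ![0, 1, 0, 0, 0, 0, 0, 0], ![0, 0, 1, 0, 0, 0, 0, 0],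
  ![0, 0, 0, 1, 0, 0, 0, 0], ![0, 0, 0, 0, 1, 0, 0, 0], ![0, 0, 0, 0, 0, 1, 0, 0],
  ![0, 0, 0, 0, 0, 0, 1, 0], ![0, 0, 0, 0, 0, 0, 0, 1], ![2, 3, 4, 6, 5, 4, 3, 2]]

/-- Its coroot, as a linear form. -/
def coV : Fin 9 → Fin 8 → ℤ := ![
  ![2, 0, -1, 0, 0, 0, 0, 0], ![0, 2, 0, -1, 0, 0, 0, 0], ![-1, 0, 2, -1, 0, 0, 0, 0],
  ![0, -1, -1, 2, -1, 0, 0, 0], ![0, 0, 0, -1, 2, -1, 0, 0], ![0, 0, 0, 0, -1, 2, -1, 0],
  ![0, 0, 0, 0, 0, -1, 2, -1], ![0, 0, 0, 0, 0, 0, -1, 2], ![0, 0, 0, 0, 0, 0, 0, 1]]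

theorem vec_wperm : ∀ r : Fin 9, ∀ s : Fin chevE8.nroots, ∀ m : Fin 8,
    vT m (wperm r s) = vT m s - lin (coV r) s * rootV r m := by decide +kernel

theorem lin_coV_wperm : ∀ r : Fin 9, ∀ s : Fin chevE8.nroots,
    lin (coV r) (wperm r s) = -lin (coV r) s := by decide +kernel

theorem coV_sq : ∀ r : Fin 9, ∑ s, lin (coV r) s * lin (coV r) s = 120 := by decide +kernel

theorem coV_vec : ∀ r : Fin 9, ∀ m : Fin 8,
    ∑ s, lin (coV r) s * vT m s = 60 * rootV r m := by decide +kernel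

/-- The value of a linear form on the root of a reflection. -/
def dot (r : Fin 9) (x : Fin 8 → ℤ) : ℤ := ∑ m, rootV r m * x m

theorem lin_wperm (r : Fin 9) (x : Fin 8 → ℤ) (s : Fin chevE8.nroots) :
    lin x (wperm r s) = lin x s - lin (coV r) s * dot r x := by
  simp only [lin_eq x, vec_wperm, dot, Finset.mul_sum, ← Finset.sum_sub_distrib]
  exact Finset.sum_congr rfl fun m _ => by ring

theorem coV_lin (r : Fin 9) (x : Fin 8 → ℤ) :
    ∑ s, lin (coV r) s * lin x s = 60 * dot r x := by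
  simp only [lin_eq x, dot, Finset.mul_sum]
  rw [Finset.sum_comm]
  refine Finset.sum_congr rfl fun m _ => ?_
  rw [Finset.sum_congr rfl fun s _ => (mul_assoc (lin (coV r) s) (vT m s) (x m)).symm,
    ← Finset.sum_mul, coV_vec, mul_assoc]

/-- The shift and level of a reflection: zero, or one for the affine one. -/
def lev : Fin 9 → ℤ := ![0, 0, 0, 0, 0, 0, 0, 0, 1]

/-- The all-one form, whose values are the heights. -/
def one8 : Fin 8 → ℤ := fun _ => 1

/-- The energy of an integral point. -/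
def energy (l : ℤ) (x : Fin 8 → ℤ) : ℤ := ∑ s, (30 * lin x s - l * lin one8 s) ^ 2

/-- The affine reflection of an integral point. -/
def areflect (l : ℤ) (r : Fin 9) (x : Fin 8 → ℤ) : Fin 8 → ℤ :=
  fun m => x m - (dot r x - l * lev r) * coV r m

theorem lin_areflect (l : ℤ) (r : Fin 9) (x : Fin 8 → ℤ) (s : Fin chevE8.nroots) :
    lin (areflect l r x) s = lin x (wperm r s) + l * lev r * lin (coV r) s := by
  rw [lin_wperm]
  unfold areflect
  rw [lin_sub_smul]
  ring

/-- The permutation as an equivalence. -/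
def wEquiv (r : Fin 9) : Equiv.Perm (Fin chevE8.nroots) :=
  ⟨wperm r, wperm r, wperm_invol r, wperm_invol r⟩

theorem energy_areflect (l : ℤ) (r : Fin 9) (x : Fin 8 → ℤ) :
    energy l (areflect l r x) = energy l x +
      3600 * (l * (dot r one8 - 30 * lev r)) * (dot r x - l * lev r) := by
  have key : ∀ s, (30 * lin (areflect l r x) (wperm r s) - l * lin one8 (wperm r s)) ^ 2 =
      (30 * lin x s - l * lin one8 s) ^ 2 +
      2 * (l * (dot r one8 - 30 * lev r)) * 30 * (lin (coV r) s * lin x s) -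
      2 * (l * (dot r one8 - 30 * lev r)) * l * (lin (coV r) s * lin one8 s) +
      (l * (dot r one8 - 30 * lev r)) ^ 2 * (lin (coV r) s * lin (coV r) s) := fun s => by
    rw [lin_areflect, wperm_invol, lin_coV_wperm, lin_wperm r one8]; ring
  rw [energy, ← Equiv.sum_comp (wEquiv r)]
  simp only [wEquiv, Equiv.coe_fn_mk, key]
  rw [Finset.sum_add_distrib, Finset.sum_sub_distrib, Finset.sum_add_distrib,
    ← Finset.mul_sum, ← Finset.mul_sum, ← Finset.mul_sum, coV_lin, coV_lin, coV_sq, ← energy]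
  ring

theorem dot_simple : ∀ i : Fin 8, dot i.castSucc one8 = 1 ∧ lev i.castSucc = 0 ∧
    ∀ m : Fin 8, rootV i.castSucc m = if m = i then 1 else 0 := by decide +kernel

theorem dot_theta : dot 8 one8 = 29 ∧ lev 8 = 1 := by decide +kernel

theorem dot_simple_eq (i : Fin 8) (x : Fin 8 → ℤ) : dot i.castSucc x = x i := by
  simp [dot, (dot_simple i).2.2]

/-- Every integral point is carried into the alcove of level `l`, modulo `l`. -/
theorem exists_alcove (l : ℕ) (hl : 0 < l) (x : Fin 8 → ℤ) :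
    ∃ (y : Fin 8 → ℤ) (e : Equiv.Perm (Fin chevE8.nroots)), (∀ i, 0 ≤ y i) ∧ dot 8 y ≤ l ∧
      ∀ s, (lin y s : ZMod l) = (lin x (e s) : ZMod l) := by
  by_cases hx : (∀ i, 0 ≤ x i) ∧ dot 8 x ≤ l
  · exact ⟨x, 1, hx.1, hx.2, fun s => rfl⟩
  obtain ⟨r, hr⟩ : ∃ r : Fin 9,
      (l : ℤ) * (dot r one8 - 30 * lev r) * (dot r x - l * lev r) < 0 := by
    rw [not_and_or, not_forall, not_le] at hx
    rcases hx with ⟨i, hi⟩ | hθ
    · refine ⟨i.castSucc, ?_⟩
      rw [(dot_simple i).1, (dot_simple i).2.1, dot_simple_eq]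
      have : (0 : ℤ) < l := by exact_mod_cast hl
      nlinarith [not_le.mp hi]
    · refine ⟨8, ?_⟩
      rw [dot_theta.1, dot_theta.2]
      have : (0 : ℤ) < l := by exact_mod_cast hl
      nlinarith
  have hlt : energy l (areflect l r x) < energy l x := by rw [energy_areflect]; nlinarith
  have hnn : 0 ≤ energy l (areflect l r x) := Finset.sum_nonneg fun s _ => sq_nonneg _
  obtain ⟨y, e, hy, hyθ, he⟩ := exists_alcove l hl (areflect l r x)
  refine ⟨y, wEquiv r * e, hy, hyθ, fun s => ?_⟩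
  rw [he, lin_areflect]
  simp [wEquiv, Equiv.Perm.mul_apply]
termination_by (energy l x).toNat
decreasing_by omega

/-- Lists with weighted sum at most the budget. -/
def pts : List ℕ → ℕ → List (List ℕ)
  | [], _ => [[]]
  | t :: ts, b => (List.range (b / t + 1)).flatMap fun a => (pts ts (b - a * t)).map (a :: ·)

theorem mem_pts : ∀ (ts l : List ℕ) (b : ℕ), (∀ t ∈ ts, 0 < t) → l.length = ts.length →
    (List.zipWith (· * ·) ts l).sum ≤ b → l ∈ pts ts b := by
  intro ts
  induction ts with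
  | nil => intro l b _ hl _; simp [pts, List.length_eq_zero_iff.mp (by simpa using hl)]
  | cons t ts ih =>
    intro l b hpos hl hs
    rcases l with _ | ⟨a, l⟩
    · simp at hl
    simp only [List.zipWith_cons_cons, List.sum_cons] at hs
    simp only [List.forall_mem_cons] at hpos
    simp only [pts, List.mem_flatMap, List.mem_range, List.mem_map]
    refine ⟨a, ?_, l, ih l _ hpos.2 (by simpa using hl) ?_, rfl⟩
    · rw [Nat.lt_succ_iff, Nat.le_div_iff_mul_le hpos.1]; rw [mul_comm]; omega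
    · rw [mul_comm a t]; omega

/-- The coefficients of the highest root. -/
def thetaL : List ℕ := [2, 3, 4, 6, 5, 4, 3, 2]

/-- The point of a list. -/
def ofL (l : List ℕ) (i : Fin 8) : ℤ := (l.getD i 0 : ℤ)

theorem exists_pts (l : ℕ) (y : Fin 8 → ℤ) (hy : ∀ i, 0 ≤ y i) (hθ : dot 8 y ≤ l) :
    ∃ L ∈ pts thetaL l, L.length = 8 ∧ ofL L = y := by
  refine ⟨List.ofFn fun i => (y i).toNat,
    mem_pts _ _ _ (by decide) (by simp [thetaL]) ?_, by simp, ?_⟩
  · have h : dot 8 y = 2 * y 0 + 3 * y 1 + 4 * y 2 + 6 * y 3 + 5 * y 4 + 4 * y 5 + 3 * y 6 +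
        2 * y 7 := by simp [dot, Fin.sum_univ_eight, rootV]
    simp [thetaL, List.ofFn_succ]
    have := hy 0; have := hy 1; have := hy 2; have := hy 3
    have := hy 4; have := hy 5; have := hy 6; have := hy 7
    omega
  · funext i
    fin_cases i <;> simp [ofL, List.ofFn_succ] <;> apply hy

/-- The Gram matrix. -/
def gram : Fin 8 → Fin 8 → ℤ := ![
    ![240, 300, 420, 600, 480, 360, 240, 120],
    ![300, 480, 600, 900, 720, 540, 360, 180],
    ![420, 600, 840, 1200, 960, 720, 480, 240],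
    ![600, 900, 1200, 1800, 1440, 1080, 720, 360],
    ![480, 720, 960, 1440, 1200, 900, 600, 300],
    ![360, 540, 720, 1080, 900, 720, 480, 240],
    ![240, 360, 480, 720, 600, 480, 360, 180],
    ![120, 180, 240, 360, 300, 240, 180, 120]]

theorem gram_eq : ∀ m n : Fin 8, gram m n = ∑ s, vT m s * vT n s := by decide +kernel

/-- The sum of the squares of the values on the roots. -/
def quad (y : Fin 8 → ℤ) : ℤ := ∑ m, ∑ n, y m * gram m n * y n

theorem quad_eq (y : Fin 8 → ℤ) : quad y = ∑ s, lin y s ^ 2 := by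
  simp only [quad, gram_eq, lin_eq, pow_two, Finset.sum_mul_sum]
  rw [Finset.sum_comm (γ := Fin chevE8.nroots)]
  refine Finset.sum_congr rfl fun m _ => ?_
  rw [Finset.sum_comm (γ := Fin chevE8.nroots)]
  refine Finset.sum_congr rfl fun n _ => ?_
  rw [Finset.mul_sum, Finset.sum_mul]
  exact Finset.sum_congr rfl fun s _ => by ring

/-- Scalar product of lists. -/
def dotN : List ℕ → List ℕ → ℕ
  | a :: as, b :: bs => a * b + dotN as bs
  | _, _ => 0

/-- The Gram matrix as a list. -/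
def gramL : List (List ℕ) := [
  [240, 300, 420, 600, 480, 360, 240, 120],
  [300, 480, 600, 900, 720, 540, 360, 180],
  [420, 600, 840, 1200, 960, 720, 480, 240],
  [600, 900, 1200, 1800, 1440, 1080, 720, 360],
  [480, 720, 960, 1440, 1200, 900, 600, 300],
  [360, 540, 720, 1080, 900, 720, 480, 240],
  [240, 360, 480, 720, 600, 480, 360, 180],
  [120, 180, 240, 360, 300, 240, 180, 120]]

/-- The form on a list. -/
def quadL (L : List ℕ) : ℕ := dotN L (gramL.map (dotN L))

theorem quad_ofL (L : List ℕ) (hL : L.length = 8) : quad (ofL L) = (quadL L : ℤ) := by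
  rcases L with _ | ⟨a0, _ | ⟨a1, _ | ⟨a2, _ | ⟨a3, _ | ⟨a4, _ | ⟨a5, _ | ⟨a6, _ | ⟨a7, _ | ⟨a8, L⟩⟩⟩⟩⟩⟩⟩⟩⟩ <;>
    simp at hL
  simp [quad, quadL, dotN, gramL, gram, ofL, Fin.sum_univ_eight]
  ring

/-- How often the value `v` is taken. -/
def cntV (l : ℕ) (y : Fin 8 → ℤ) (v : ℕ) : ℕ :=
  (List.finRange chevE8.nroots).countP fun s => (lin y s % (l : ℤ)).toNat == v

theorem cntV_eq (l : ℕ) [NeZero l] (y : Fin 8 → ℤ) (v : ℕ) (hv : v < l) :
    (Finset.univ.filter fun s : Fin chevE8.nroots => (lin y s : ZMod l) = (v : ZMod l)).card =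
      cntV l y v := by
  rw [cntV, List.countP_eq_length_filter, ← List.toFinset_card_of_nodup
    ((List.nodup_finRange _).filter _)]
  congr 1
  ext s
  simp only [Finset.mem_filter, Finset.mem_univ, true_and, List.mem_toFinset, List.mem_filter,
    List.mem_finRange, beq_iff_eq]
  have h1 := Int.emod_nonneg (lin y s) (by exact_mod_cast NeZero.ne l : (l : ℤ) ≠ 0)
  rw [show (v : ZMod l) = ((v : ℤ) : ZMod l) by norm_cast, ZMod.intCast_eq_intCast_iff',
    Int.emod_eq_of_lt (by positivity : (0 : ℤ) ≤ v) (by exact_mod_cast hv)]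
  omega

/-- A point is not flat. -/
def good (L : List ℕ) : Bool :=
  quadL L % 17 != 0 || ((List.finRange 8).all fun i => ofL L i == 0) ||
    (List.range' 2 15).any fun v => cntV 17 (ofL L) v != cntV 17 (ofL L) 1

theorem good_pts : ((pts thetaL 17).all good) = true := by decide +kernel

theorem spec_pts : ((pts thetaL 3).all fun L =>
    ((List.finRange 8).all fun i => ofL L i == 0) ||
      [72, 78, 84, 126].contains (cntV 3 (ofL L) 0)) = true := by decide +kernel

/-- The indices of the fundamental roots. -/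
def simpleIx : Fin 8 → Fin chevE8.nroots :=
  ![⟨162, by decide⟩, ⟨141, by decide⟩, ⟨135, by decide⟩, ⟨130, by decide⟩,
    ⟨126, by decide⟩, ⟨123, by decide⟩, ⟨121, by decide⟩, ⟨120, by decide⟩]

theorem vT_simpleIx : ∀ i m : Fin 8, vT m (simpleIx i) = if m = i then 1 else 0 := by
  decide +kernel

/-- A root function mod `l` is, up to a permutation of the roots, that of an alcove point. -/
theorem exists_normal (l : ℕ) [NeZero l] (f : Fin 8 → ZMod l) (hf : f ≠ 0) :
    ∃ L ∈ pts thetaL l, L.length = 8 ∧ ((List.finRange 8).all fun i => ofL L i == 0) = false ∧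
      ∃ e : Equiv.Perm (Fin chevE8.nroots), ∀ s,
        (lin (ofL L) s : ZMod l) = ∑ m : Fin 8, (sysE8.vec m (e s) : ZMod l) * f m := by
  obtain ⟨y, e, hy, hθ, he⟩ := exists_alcove l (NeZero.pos l) (fun m => ((f m).val : ℤ))
  obtain ⟨L, hL, hlen, rfl⟩ := exists_pts l y hy hθ
  have he' : ∀ s, (lin (ofL L) s : ZMod l) =
      ∑ m : Fin 8, (sysE8.vec m (e s) : ZMod l) * f m := fun s => by
    rw [he, lin_eq]; push_cast
    simp [vec_eq]
  refine ⟨L, hL, hlen, ?_, e, he'⟩
  by_contra h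
  rw [Bool.not_eq_false, List.all_eq_true] at h
  refine hf (funext fun i => ?_)
  have h0 := he' (e.symm (simpleIx i))
  rw [Equiv.apply_symm_apply, lin_eq,
    Finset.sum_eq_zero (fun m _ => by rw [beq_iff_eq.mp (h m (List.mem_finRange m)), mul_zero])] at h0
  simpa [vec_eq, vT_simpleIx, apply_ite (fun z : ℤ => (z : ZMod l)), eq_comm] using h0.symm

/-- Counting is unchanged by a permutation of the roots. -/
theorem card_filter_perm {α β : Type*} [Fintype α] [DecidableEq β] (e : Equiv.Perm α) (g h : α → β)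
    (H : ∀ s, g s = h (e s)) (v : β) :
    (Finset.univ.filter fun s => g s = v).card = (Finset.univ.filter fun s => h s = v).card := by
  refine Finset.card_equiv e fun s => ?_
  simp [H]

theorem sum_sq_seventeen : ∑ v : ZMod 17, v ^ 2 = 0 := by decide

/-- No nonzero root function mod 17 takes all nonzero values equally often. -/
theorem no_flat_seventeen (f : Fin 8 → ZMod 17) (hf : f ≠ 0)
    (hflat : ∀ v w : ZMod 17, v ≠ 0 → w ≠ 0 → cnt17 f v = cnt17 f w) : False := by
  obtain ⟨L, hL, hlen, hnz, e, he⟩ := exists_normal 17 f hf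
  have hc : ∀ v, (Finset.univ.filter fun s => (lin (ofL L) s : ZMod 17) = v).card = cnt17 f v :=
    fun v => card_filter_perm e _ (fun s => ∑ m : Fin 8, (sysE8.vec m s : ZMod 17) * f m) he v
  have hg := List.all_eq_true.mp good_pts L hL
  simp only [good, Bool.or_eq_true, hnz, Bool.false_eq_true, or_false, bne_iff_ne] at hg
  rcases hg with hq | hv
  · apply hq
    have h0 : ((quad (ofL L) : ℤ) : ZMod 17) = 0 := by
      rw [quad_eq]; push_cast
      rw [← Finset.sum_fiberwise (Finset.univ : Finset (Fin chevE8.nroots))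
        (fun s => (lin (ofL L) s : ZMod 17))]
      have h1 : ∀ v : ZMod 17, (∑ s ∈ Finset.univ.filter (fun s => (lin (ofL L) s : ZMod 17) = v),
          (lin (ofL L) s : ZMod 17) ^ 2) = (cnt17 f 1 : ZMod 17) * v ^ 2 := fun v => by
        rw [Finset.sum_congr rfl (g := fun _ => v ^ 2) fun s hs => by rw [(Finset.mem_filter.mp hs).2],
          Finset.sum_const, nsmul_eq_mul, hc]
        by_cases h : v = 0
        · simp [h]
        · rw [hflat v 1 h (by decide)]
      simp only [h1, ← Finset.mul_sum, sum_sq_seventeen, mul_zero]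
    have := (ZMod.intCast_zmod_eq_zero_iff_dvd _ 17).mp h0
    rw [quad_ofL L hlen] at this
    omega
  · obtain ⟨v, hvm, hv⟩ := List.any_eq_true.mp hv
    rw [List.mem_range'_1] at hvm
    simp only [bne_iff_ne] at hv
    apply hv
    rw [← cntV_eq 17 _ v (by omega), ← cntV_eq 17 _ 1 (by omega), hc, hc]
    refine hflat _ _ ?_ (by decide)
    intro h
    rw [ZMod.natCast_eq_zero_iff] at h
    omega

/-- The fixed dimensions of the elements of order three of the torus. -/
theorem spec_three (f : Fin 8 → ZMod 3) (hf : f ≠ 0) :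
    8 + (Finset.univ.filter fun s : Fin chevE8.nroots =>
      (∑ m : Fin 8, (sysE8.vec m s : ZMod 3) * f m) = 0).card ∈ ({80, 86, 92, 134} : Finset ℕ) := by
  obtain ⟨L, hL, hlen, hnz, e, he⟩ := exists_normal 3 f hf
  have hg := List.all_eq_true.mp spec_pts L hL
  simp only [hnz, Bool.false_or, List.contains_iff_mem] at hg
  rw [← card_filter_perm e _ (fun s => ∑ m : Fin 8, (sysE8.vec m s : ZMod 3) * f m) he 0]
  have := cntV_eq 3 (ofL L) 0 (by omega)
  rw [Nat.cast_zero] at this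
  rw [this]
  simp only [List.mem_cons, List.not_mem_nil, or_false] at hg
  rcases hg with h | h | h | h <;> rw [h] <;> decide

end CfsgLib.E8Alt74
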